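import Groth.Agent.Redsub.H644.ClosedNorm
import Groth.Agent.Sga3C.GrpIrr
import Groth.Agent.Sga3B.Parab.PbKN751
import Groth.Agent.Sga3B.RG.PbQ890
import Groth.Prelude.Def_RedSub

/-!
# Borel sub-group-schemes are closed and self-normalising
-/

set_option autoImplicit false
open CategoryTheory MonoidalCategory CartesianMonoidalCategory MonObj GrpObj AlgebraicGeometry Limits
universe u

namespace Groth.Agent.Redsub.H644.BorelClosed

open Groth.Agent.Sga3A.NormDefs Groth.Agent.Sga3B

variable {S : Scheme.{u}} {G B : Over S} [GrpObj G] [GrpObj B]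

/-- A Borel subgroup is parabolic. -/
theorem isParabolicOver_of_isBorelOver {K : Type u} [Field K] {G B : Over (Spec (CommRingCat.of K))} [GrpObj G]
    [GrpObj B] {i : B ⟶ G} (h : Red.IsBorelOver K i) : Red.IsParabolicOver K i :=
  ⟨h.1, h.2.1, h.2.2.1, B, inferInstance, 𝟙 B, by rwa [Category.id_comp]⟩

/-- A parabolic subgroup of a reductive group over an algebraically closed field is its own normaliser, also on points
with values in arbitrary schemes. -/
theorem isNormalizerOf_over {K : Type u} [Field K] [IsAlgClosed K] {G P : Over (Spec (CommRingCat.of K))} [GrpObj G]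
    [GrpObj P] {i : P ⟶ G} (hG : Red.IsReductiveOver K G) (h : Red.IsParabolicOver K i) : Red.IsNormalizerOf i i :=
  Parab.PbKN751.isNormalizerOf_of_KN (fun K _ _ => RG.PbQ890.kn K) (Sga3A.NormParab.isReductive_of_over hG) i
    (Sga3A.NormParab.isParabolic_of_over h)

lemma inP_of_nor_nor_inv {i : B ⟶ G} (h : Red.IsNormalizerOf i i) {Y : Over S} {g : Y ⟶ G} (h1 : Nor i g)
    (h2 : Nor i g⁻¹) : InP i g := by
  refine (h.2.2 Y g).2 fun X x k => ⟨?_, ?_⟩
  · obtain ⟨z, hz⟩ := h1 X x k
    exact ⟨z, hz.symm⟩
  · obtain ⟨z, hz⟩ := h2 X x k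
    refine ⟨z, ?_⟩
    rw [hz, GrpObj.comp_inv, _root_.inv_inv]

/-- A group scheme locally of finite type with connected fibres is geometrically irreducible. -/
theorem geometricallyIrreducible_of_hasConnectedFibres [LocallyOfFiniteType B.hom]
    (h : RedSub.HasConnectedFibres B) : GeometricallyIrreducible B.hom := by
  have : GrpObj (Over.mk B.hom) := inferInstanceAs (GrpObj B)
  exact Sga3C.GrpIrr.geometricallyIrreducible_of_connected_fibres B.hom h

/-- **Parabolic sub-group-schemes with connected fibres, quasi-compact, are closed.** -/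
theorem isClosedImmersion_of_isParabolicOver (hG : Red.IsReductive G) (i : B ⟶ G) (hi : RedSub.IsSubgrp i)
    (hs : Smooth B.hom) (hqc : QuasiCompact B.hom) (hirr : GeometricallyIrreducible B.hom)
    (hP : ∀ s : S, Red.IsParabolicOver (AlgebraicClosure (S.residueField s)) ((Over.pullback (Red.geomPt s)).map i)) :
    IsClosedImmersion i.left := by
  have h1 := hi.1
  have h2 := hi.2
  have h3 := hG.1
  have h4 : QuasiCompact i.left := by
    have : QuasiCompact (i.left ≫ G.hom) := by rw [Over.w]; exact hqc
    exact QuasiCompact.of_comp i.left G.hom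
  exact ClosedNorm.isClosedImmersion_of_selfNormalizing i (fun s => (hP s).2.1) fun s T' g hg hg' =>
    inP_of_nor_nor_inv (isNormalizerOf_over (hG.2.2 s) (hP s)) hg hg'

/-- **Borel sub-group-schemes of reductive group schemes are closed.** -/
theorem isClosedImmersion_of_isBorelSub (hG : Red.IsReductive G) (i : B ⟶ G) (hB : RedSub.IsBorelSub i) :
    IsClosedImmersion i.left := by
  have h1 := hB.1.2.1
  exact isClosedImmersion_of_isParabolicOver hG i hB.1.1 hB.1.2.1 hB.1.2.2.1
    (geometricallyIrreducible_of_hasConnectedFibres hB.1.2.2.2.1)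
    fun s => isParabolicOver_of_isBorelOver (hB.2 s)

/-- A Borel sub-group-scheme is a Borel subgroup in the sense with closedness built in. -/
theorem isBorel_of_isBorelSub (hG : Red.IsReductive G) {i : B ⟶ G} (hB : RedSub.IsBorelSub i) : Red.IsBorel i :=
  ⟨hB.1.1.1, isClosedImmersion_of_isBorelSub hG i hB, hB.1.2.1, hB.2⟩

/-- A Borel subgroup is parabolic. -/
theorem isParabolic_of_isBorel {i : B ⟶ G} (h : Red.IsBorel i) : Red.IsParabolic i :=
  ⟨h.1, h.2.1, h.2.2.1, fun s => isParabolicOver_of_isBorelOver (h.2.2.2 s)⟩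

/-- **A parabolic subgroup of a reductive group scheme is its own normaliser** (unconditional form). -/
theorem isNormalizerOf_of_isParabolic (hG : Red.IsReductive G) {i : B ⟶ G} (h : Red.IsParabolic i) :
    Red.IsNormalizerOf i i :=
  Parab.PbKN751.isNormalizerOf_of_KN (fun K _ _ => RG.PbQ890.kn K) hG i h

end Groth.Agent.Redsub.H644.BorelClosed
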