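import Groth.Agent.Sga3A.NormDefs
import Groth.Agent.Etcore.SmoothRed
import Groth.Agent.Ega1.ReducedSub
import Mathlib.AlgebraicGeometry.ValuativeCriterion
import Mathlib.AlgebraicGeometry.Geometrically.Irreducible
import Mathlib.AlgebraicGeometry.Morphisms.Flat
import Mathlib.AlgebraicGeometry.Morphisms.UniversallyOpen

/-!
# Self-normalising sub-group-schemes are closed

Let `i : P ⟶ G` be a sub-group-scheme (an immersion), `P` smooth over `S` with geometrically irreducible
fibres, closed on the geometric fibres and self-normalising there. Then `i` is a closed immersion.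
-/

set_option autoImplicit false
open CategoryTheory MonoidalCategory CartesianMonoidalCategory MonObj GrpObj AlgebraicGeometry Limits
universe u

namespace Groth.Agent.Redsub.H644.ClosedNorm

open Groth.Agent.Sga3A.NormDefs Groth.Agent.Sga3B.BcPts

/-- A locally closed dense subset is open. -/
theorem isOpen_of_isLocallyClosed_of_dense {X : Type*} [TopologicalSpace X] {L : Set X}
    (h : IsLocallyClosed L) (hd : Dense L) : IsOpen L := by
  have h1 := h.isOpen_coborder
  have h2 : coborder L = L := by
    rw [coborder, hd.closure_eq]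
    ext x
    simp
  rwa [h2] at h1

/-- The generic fibre of a flat scheme over a domain is dense. -/
theorem dense_generic {X : Scheme.{u}} {R : Type u} [CommRing R] [IsDomain R] (f : X ⟶ Spec (CommRingCat.of R))
    [Flat f] {L : Set X} (hL : ∀ x : X, f x = genericPoint (Spec (CommRingCat.of R)) → x ∈ L) : Dense L := by
  intro x
  have h1 : genericPoint (Spec (CommRingCat.of R)) ⤳ f x := genericPoint_specializes _
  obtain ⟨y, hy, hyx⟩ := Flat.generalizingMap f h1
  exact hy.mem_closed isClosed_closure (subset_closure (hL y hyx))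

variable {S : Scheme.{u}} {G P : Over S}

lemma mem_range_of_inP {i : P ⟶ G} {Y : Over S} {g : Y ⟶ G} (h : InP i g) (y : Y.left) :
    g.left y ∈ Set.range i.left := by
  obtain ⟨z, rfl⟩ := h
  exact ⟨z.left y, by rw [Over.comp_left, Scheme.Hom.comp_apply]⟩

/-- A point with values in a reduced scheme lies in an immersed subscheme as soon as this holds set-theoretically. -/
lemma inP_of_range {i : P ⟶ G} [IsImmersion i.left] {Y : Over S} [IsReduced Y.left] {g : Y ⟶ G}
    (h : ∀ y : Y.left, g.left y ∈ Set.range i.left) : InP i g := by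
  obtain ⟨z, hz⟩ := Ega1.ReducedSub.exists_factor_of_range_subset g.left i.left
    (by rintro _ ⟨y, rfl⟩; exact h y)
  refine ⟨Over.homMk z ?_, ?_⟩
  · rw [← Over.w i, ← Category.assoc, hz, Over.w]
  · ext : 1
    exact hz

section bc

variable {S' : Scheme.{u}} (f : S' ⟶ S)

lemma isPullback_map_left {Z Y : Over S} (i : Z ⟶ Y) :
    IsPullback (pullback.fst Z.hom f) ((Over.pullback f).map i).left i.left
      (pullback.fst Y.hom f) := by
  have hw : i.left ≫ Y.hom = Z.hom := Over.w i
  have h2 : IsPullback (pullback.fst Z.hom f) (pullback.snd Z.hom f) (i.left ≫ Y.hom) f := by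
    rw [hw]
    exact IsPullback.of_hasPullback Z.hom f
  have h1 : pullback.fst Z.hom f ≫ i.left =
      ((Over.pullback f).map i).left ≫ pullback.fst Y.hom f :=
    (pullback.lift_fst _ _ _).symm
  have h3 : ((Over.pullback f).map i).left ≫ pullback.snd Y.hom f = pullback.snd Z.hom f :=
    pullback.lift_snd _ _ _
  refine IsPullback.of_bot (h₂₁ := pullback.fst Y.hom f) (v₂₁ := pullback.snd Y.hom f)
    (v₂₂ := Y.hom) (h₃₁ := f) ?_ h1 (IsPullback.of_hasPullback Y.hom f)
  rw [h3]
  exact h2

/-- The range of a base change. -/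
lemma mem_range_bc (i : P ⟶ G) (y : (Red.bc f G).left) : y ∈ Set.range ((Over.pullback f).map i).left ↔
    pullback.fst G.hom f y ∈ Set.range i.left := by
  have h := isPullback_map_left f i
  constructor
  · rintro ⟨x, rfl⟩
    refine ⟨pullback.fst P.hom f x, ?_⟩
    rw [← Scheme.Hom.comp_apply, ← Scheme.Hom.comp_apply, h.w]
  · rintro ⟨x, hx⟩
    obtain ⟨z, hz, hz'⟩ := Scheme.exists_preimage_of_isPullback h x y hx
    exact ⟨z, hz'⟩

lemma bcEquiv_symm_left {T : Over S'} (x : T ⟶ Red.bc f G) :
    ((bcEquiv f T G).symm x).left = x.left ≫ pullback.fst G.hom f := by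
  simp [bcEquiv, Adjunction.homEquiv_counit]

end bc

variable [GrpObj G]

/-- The locus of the universal conjugate which lies in `P`. -/
noncomputable def locus (i : P ⟶ G) {Y : Over S} (g : Y ⟶ G) : Set (Y ⊗ P).left :=
  (uconj i g).left ⁻¹' Set.range i.left

variable [GrpObj P]

/-- If the conjugate of `P` by `g` agrees with `P` on the generic fibre of a flat family over a domain, then the
locus where it lies in `P` is open. -/
theorem isOpen_locus (i : P ⟶ G) [IsMonHom i] [IsImmersion i.left] [Flat P.hom] {R : Type u} [CommRing R]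
    [IsDomain R] (f : Spec (CommRingCat.of R) ⟶ S) (g : Over.mk f ⟶ G) {T' : Over S} (e : T' ⟶ Over.mk f)
    (x₀ : T'.left) (hx₀ : e.left x₀ = genericPoint (Spec (CommRingCat.of R))) (h : InP i (e ≫ g)) :
    IsOpen (locus i g) := by
  refine isOpen_of_isLocallyClosed_of_dense
    (i.left.isLocallyClosed_range.preimage (uconj i g).left.continuous) ?_
  have hfl : Flat (fst (Over.mk f) P).left :=
    inferInstanceAs (Flat (pullback.fst (Over.mk f).hom P.hom))
  refine dense_generic (R := R) (fst (Over.mk f) P).left fun x hx => ?_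
  obtain ⟨z, hz, -⟩ := Scheme.Pullback.exists_preimage_pullback (f := (fst (Over.mk f) P).left) (g := e.left)
    x x₀ (hx.trans hx₀.symm)
  let Y : Over S := Over.mk (pullback.fst (fst (Over.mk f) P).left e.left ≫ (Over.mk f ⊗ P).hom)
  let a : Y ⟶ Over.mk f ⊗ P := Over.homMk (pullback.fst (fst (Over.mk f) P).left e.left) rfl
  let b : Y ⟶ T' := Over.homMk (pullback.snd (fst (Over.mk f) P).left e.left) (by
    change pullback.snd _ _ ≫ T'.hom = pullback.fst _ _ ≫ (Over.mk f ⊗ P).hom
    rw [← Over.w e, ← Over.w (fst (Over.mk f) P), ← Category.assoc, ← Category.assoc, pullback.condition])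
  have hab : a ≫ fst (Over.mk f) P = b ≫ e := by
    ext : 1
    exact pullback.condition
  have h1 : InP i (a ≫ uconj i g) := by
    have e' : a = lift (b ≫ e) (a ≫ snd _ _) := by
      rw [← hab]
      ext1 <;> simp
    rw [e', lift_uconj, Category.assoc]
    exact ((h.comp b).mul ⟨_, rfl⟩).mul (h.comp b).inv
  have h2 := mem_range_of_inP h1 z
  rw [Over.comp_left, Scheme.Hom.comp_apply] at h2
  change (uconj i g).left x ∈ Set.range i.left
  rw [← hz]
  exact h2

section bc

variable {S' : Scheme.{u}} (f : S' ⟶ S)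

/-- The conjugate of `P` by `g` agrees with `P` on a fibre where `P` is closed, if the agreement locus is open. -/
theorem nor_of_isOpen_locus (i : P ⟶ G) [IsMonHom i] [Smooth P.hom] [GeometricallyIrreducible P.hom]
    (hcl : IsClosedImmersion ((Over.pullback f).map i).left)
    {T : Over S} (g : T ⟶ G) (ho : IsOpen (locus i g)) {T' : Over S'} [IsReduced T'.left] [IrreducibleSpace T'.left]
    (j : (Over.map f).obj T' ⟶ T) : Nor ((Over.pullback f).map i) (bcEquiv f T' G (j ≫ g)) := by
  rw [nor_iff]
  set i' := (Over.pullback f).map i with hi'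
  set g' := bcEquiv f T' G (j ≫ g) with hg'
  have hs1 : Smooth (Red.bc f P).hom := inferInstanceAs (Smooth (pullback.snd P.hom f))
  have hs2 : GeometricallyIrreducible (Red.bc f P).hom :=
    inferInstanceAs (GeometricallyIrreducible (pullback.snd P.hom f))
  have hirr : IrreducibleSpace (T' ⊗ Red.bc f P).left :=
    inferInstanceAs (IrreducibleSpace ↥(pullback T'.hom (Red.bc f P).hom))
  have hsm : Smooth (fst T' (Red.bc f P)).left :=
    inferInstanceAs (Smooth (pullback.fst T'.hom (Red.bc f P).hom))
  have hred : IsReduced (T' ⊗ Red.bc f P).left := Etcore.SmoothRed.isReduced_of_smooth (fst T' (Red.bc f P)).left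
  refine inP_of_range fun y => ?_
  -- the map to the family over `T`
  let a : (Over.map f).obj (T' ⊗ Red.bc f P) ⟶ T := (Over.map f).map (fst T' (Red.bc f P)) ≫ j
  let b : (Over.map f).obj (T' ⊗ Red.bc f P) ⟶ P := (bcEquiv f _ P).symm (snd T' (Red.bc f P))
  have key : (bcEquiv f _ G).symm (uconj i' g') = lift a b ≫ uconj i g := by
    rw [Equiv.symm_apply_eq, lift_uconj, uconj]
    have h3 : (bcEquiv f (T' ⊗ Red.bc f P) G (a ≫ g))⁻¹ = bcEquiv f _ G (a ≫ g)⁻¹ :=
      ((bcMulEquiv f _ G).map_inv _).symm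
    have h4 : bcEquiv f (T' ⊗ Red.bc f P) G (a ≫ g) = fst T' (Red.bc f P) ≫ g' := by
      rw [hg', ← comp_bcEquiv]
      simp only [a, Category.assoc]
    have h5 : bcEquiv f (T' ⊗ Red.bc f P) G (b ≫ i) = snd T' (Red.bc f P) ≫ i' := by
      rw [bcEquiv_comp, Equiv.apply_symm_apply]
    rw [bcEquiv_mul, bcEquiv_mul, ← h3, h4, h5]
  let W : Set (T' ⊗ Red.bc f P).left := (uconj i' g').left ⁻¹' Set.range i'.left
  have hW : W = (lift a b).left ⁻¹' locus i g := by
    ext y
    change (uconj i' g').left y ∈ Set.range i'.left ↔ (uconj i g).left ((lift a b).left y) ∈ Set.range i.left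
    rw [mem_range_bc, ← Scheme.Hom.comp_apply, ← Scheme.Hom.comp_apply, ← bcEquiv_symm_left, key]
    rfl
  have hWo : IsOpen W := by
    rw [hW]
    exact ho.preimage (lift a b).left.continuous
  have hWc : IsClosed W := i'.left.isClosedEmbedding.isClosed_range.preimage (uconj i' g').left.continuous
  have hWne : W.Nonempty := by
    have t : T'.left := Classical.arbitrary _
    let s : T' ⟶ T' ⊗ Red.bc f P := lift (𝟙 T') 1
    refine ⟨s.left t, ?_⟩
    have h1 : InP i' (s ≫ uconj i' g') := by
      rw [lift_uconj, MonObj.one_comp, _root_.mul_one, mul_inv_cancel]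
      exact InP.one
    have h2 := mem_range_of_inP h1 t
    rwa [Over.comp_left, Scheme.Hom.comp_apply] at h2
  have hWu : W = Set.univ := IsClopen.eq_univ ⟨hWc, hWo⟩ hWne
  have : y ∈ W := hWu ▸ Set.mem_univ y
  exact this

end bc

lemma geomPt_apply (s : S) (x : ↥(Spec (CommRingCat.of (AlgebraicClosure (S.residueField s))))) :
    (Red.geomPt s) x = s := by
  rw [Red.geomPt, Scheme.Hom.comp_apply, Scheme.fromSpecResidueField_apply]

/-- Compatible geometric points. -/
theorem exists_geomPt {S' : Scheme.{u}} (f : S' ⟶ S) (s' : S') :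
    ∃ θ : Spec (CommRingCat.of (AlgebraicClosure (S'.residueField s'))) ⟶
        Spec (CommRingCat.of (AlgebraicClosure (S.residueField (f s')))),
      θ ≫ Red.geomPt (f s') = Red.geomPt s' ≫ f := by
  let k := S.residueField (f s')
  let k' := S'.residueField s'
  let a1 : Algebra k k' := (f.residueFieldMap s').hom.toAlgebra
  let e : AlgebraicClosure k →ₐ[k] AlgebraicClosure k' := IsAlgClosed.lift
  refine ⟨Spec.map (CommRingCat.ofHom e.toRingHom), ?_⟩
  rw [Red.geomPt, Red.geomPt, Category.assoc, ← Scheme.Hom.SpecMap_residueFieldMap_fromSpecResidueField,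
    ← Category.assoc, ← Category.assoc, ← Spec.map_comp, ← Spec.map_comp]
  congr 2
  ext a
  exact e.commutes a

/-- **Self-normalising subgroups are closed.** Let `i : P ⟶ G` be a quasi-compact sub-group-scheme (an immersion), `P` smooth
with geometrically irreducible fibres, closed and self-normalising on the geometric fibres. Then `i` is a closed
immersion. -/
theorem isClosedImmersion_of_selfNormalizing (i : P ⟶ G) [IsMonHom i] [IsImmersion i.left] [QuasiCompact i.left]
    [Smooth P.hom] [GeometricallyIrreducible P.hom]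
    (hcl : ∀ s : S, IsClosedImmersion ((Over.pullback (Red.geomPt s)).map i).left)
    (hN : ∀ (s : S) (T' : Over (Spec (CommRingCat.of (AlgebraicClosure (S.residueField s)))))
      (g : T' ⟶ Red.geomFibre s G), Nor ((Over.pullback (Red.geomPt s)).map i) g →
      Nor ((Over.pullback (Red.geomPt s)).map i) g⁻¹ → InP ((Over.pullback (Red.geomPt s)).map i) g) :
    IsClosedImmersion i.left := by
  suffices h : ValuativeCriterion.Existence i.left by
    have := UniversallyClosed.of_valuativeCriterion i.left h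
    exact .of_isPreimmersion _ i.left.isClosedMap.isClosed_range
  intro σ
  let f : Spec (CommRingCat.of σ.R) ⟶ S := σ.i₂ ≫ G.hom
  let g : Over.mk f ⟶ G := Over.homMk σ.i₂ rfl
  let e : Over.mk (Spec.map (CommRingCat.ofHom (algebraMap σ.R σ.K)) ≫ f) ⟶ Over.mk f :=
    Over.homMk (Spec.map (CommRingCat.ofHom (algebraMap σ.R σ.K))) rfl
  have hgen : InP i (e ≫ g) := by
    refine ⟨Over.homMk σ.i₁ ?_, ?_⟩
    · change σ.i₁ ≫ P.hom = Spec.map _ ≫ σ.i₂ ≫ G.hom
      rw [← Over.w i, ← Category.assoc, σ.commSq.w, Category.assoc]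
    · ext : 1
      exact σ.commSq.w
  have hx₀ : e.left (IsLocalRing.closedPoint σ.K) = genericPoint (Spec (CommRingCat.of σ.R)) := by
    have : IsDomain (CommRingCat.of σ.R) := σ.domain
    rw [genericPoint_eq_bot_of_affine]
    refine PrimeSpectrum.ext ?_
    change Ideal.comap (algebraMap σ.R σ.K) (IsLocalRing.maximalIdeal σ.K) = ⊥
    rw [IsLocalRing.maximalIdeal_eq_bot, ← RingHom.ker_eq_comap_bot, RingHom.ker_eq_bot_iff_eq_zero]
    exact fun x hx => (FaithfulSMul.algebraMap_injective σ.R σ.K) (hx.trans (map_zero _).symm)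
  have ho : IsOpen (locus i g) := isOpen_locus i f g e _ hx₀ hgen
  have ho' : IsOpen (locus i g⁻¹) := isOpen_locus i f g⁻¹ e _ hx₀ (by
    rw [GrpObj.comp_inv]; exact hgen.inv)
  -- the closed point
  let t : Spec (CommRingCat.of σ.R) := IsLocalRing.closedPoint σ.R
  obtain ⟨θ, hθ⟩ := exists_geomPt f t
  let T' : Over (Spec (CommRingCat.of (AlgebraicClosure (S.residueField (f t))))) := Over.mk θ
  let j : (Over.map (Red.geomPt (f t))).obj T' ⟶ Over.mk f := Over.homMk (Red.geomPt t) hθ.symm
  have hred : IsReduced T'.left := inferInstanceAs (IsReduced (Spec _))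
  have hirr : IrreducibleSpace T'.left :=
    inferInstanceAs (IrreducibleSpace (Spec (CommRingCat.of (AlgebraicClosure _))))
  have h1 := nor_of_isOpen_locus (Red.geomPt (f t)) i (hcl (f t)) g ho j
  have h2 := nor_of_isOpen_locus (Red.geomPt (f t)) i (hcl (f t)) g⁻¹ ho' j
  have h3 : bcEquiv (Red.geomPt (f t)) T' G (j ≫ g⁻¹) = (bcEquiv (Red.geomPt (f t)) T' G (j ≫ g))⁻¹ := by
    rw [GrpObj.comp_inv]
    exact (bcMulEquiv _ _ G).map_inv _
  rw [h3] at h2
  have h4 := (inP_bc_iff (i := i) _ _).1 (hN (f t) T' _ h1 h2)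
  have h5 : σ.i₂ t ∈ Set.range i.left := by
    let x : ↥(Spec (CommRingCat.of (AlgebraicClosure ((Spec (CommRingCat.of σ.R)).residueField t)))) :=
      Classical.arbitrary _
    have h6 : σ.i₂ ((Red.geomPt t) x) ∈ Set.range i.left := mem_range_of_inP h4 x
    rwa [geomPt_apply] at h6
  -- lift through the open subscheme in which `P` is closed
  let U := i.left.coborderRange
  have hU : Set.range σ.i₂ ⊆ Set.range U.ι := by
    rintro _ ⟨y, rfl⟩
    rw [Scheme.Opens.range_ι]
    have h8 : σ.i₂ t ∈ U := subset_coborder h5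
    have h9 : σ.i₂ y ⤳ σ.i₂ t := (IsLocalRing.specializes_closedPoint (R := σ.R) y).map σ.i₂.continuous
    exact h9.mem_open U.isOpen h8
  let l : Spec (CommRingCat.of σ.R) ⟶ U := IsOpenImmersion.lift U.ι σ.i₂ hU
  have hl : l ≫ U.ι = σ.i₂ := IsOpenImmersion.lift_fac _ _ _
  have hc : ValuativeCriterion.Existence i.left.liftCoborder := by
    have h10 : UniversallyClosed i.left.liftCoborder := inferInstance
    rw [UniversallyClosed.eq_valuativeCriterion] at h10
    exact h10.1
  obtain ⟨d, hd₁, hd₂⟩ := (hc { R := σ.R, K := σ.K, i₁ := σ.i₁, i₂ := l, commSq := ⟨by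
    rw [← cancel_mono U.ι, Category.assoc, Scheme.Hom.liftCoborder_ι, Category.assoc, hl, σ.commSq.w]⟩ }).exists_lift
  refine ⟨⟨⟨d, hd₁, ?_⟩⟩⟩
  dsimp only at hd₂
  rw [← hl, ← hd₂, Category.assoc, Scheme.Hom.liftCoborder_ι]

end Groth.Agent.Redsub.H644.ClosedNorm
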